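import Cfsg.Agent.Lib.Spor.OutKit.Main

/-!
Splitting the checks over several files.
-/

set_option autoImplicit false

namespace CfsgLib.SporOut

open CfsgLib.PresCert

theorem Tab.okWords_append (D : Tab) : ∀ (l₁ l₂ : List (List Nat)) (k : Nat),
    D.okWords k l₁ = true → D.okWords (k + l₁.length) l₂ = true → D.okWords k (l₁ ++ l₂) = true
  | [], _, _, _, h => by simpa using h
  | w :: l, l₂, k, h, h' => by
    simp only [Tab.okWords, Bool.and_eq_true] at h
    simp only [List.cons_append, Tab.okWords, Bool.and_eq_true]
    refine ⟨h.1, okWords_append D l l₂ (k + 1) h.2 ?_⟩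
    simpa [add_assoc, add_comm 1 l.length] using h'

/-- a check restricted to an interval -/
noncomputable def onRange (lo len : Nat) (p : Nat → Bool) : Bool :=
  allBelow len fun i => p (Nat.add lo i)

theorem onRange_spec {lo len : Nat} {p : Nat → Bool} (h : onRange lo len p = true) {i : Nat}
    (h1 : lo ≤ i) (h2 : i < lo + len) : p i = true := by
  have := allBelow_spec h (i - lo) (by omega)
  rwa [show Nat.add lo (i - lo) = i from Nat.add_sub_cancel' h1] at this

namespace Data

variable (d : Data)

/-- one point of the check of the centraliser -/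
noncomputable def okAat (y : Nat) : Bool :=
  match d.cA.sift d.lA (d.eA.map fun e => d.D.app (List.replicate e (nat_lit 0)) y) with
  | none => true
  | some w => !d.sameW (nat_lit 0 :: w) (w ++ [nat_lit 0]) ||
      (List.range d.p).any fun t => Nat.beq y (d.D.app (List.replicate t (nat_lit 0)) d.xA)

/-- one point of the check of the images -/
noncomputable def okBat (y : Nat) : Bool :=
  match d.cB.sift d.lB
      (d.eB.map fun e => d.D.app (List.replicate (Nat.mul d.k e) (nat_lit 1)) y) with
  | none => true
  | some w => !d.quickW (nat_lit 1 :: w) (w ++ List.replicate d.k (nat_lit 1)) || (d.R.all fun r => !(d.rels.all fun rel => d.sameW (subst r w rel) []) ||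
      d.pairs.any fun q => Nat.beq q.1 r && Nat.beq q.2 y) ||
    !d.sameW (nat_lit 1 :: w) (w ++ List.replicate d.k (nat_lit 1))

theorem okA_of (hn : d.D.n ≤ 16777216) (h : ∀ y < d.D.n, d.okAat y = true) : d.okA = true :=
  allBelow_intro hn h

theorem okB_of (hn : d.D.n ≤ 16777216) (h : ∀ y < d.D.n, d.okBat y = true) : d.okB = true :=
  allBelow_intro hn h

end Data

end CfsgLib.SporOut
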