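import Cfsg.Agent.Lib.KnownA.MathieuOut.Abstract

/-!
Bounding the outer automorphisms through the normaliser of a subgroup of prime order, allowing
several classes of generators of that subgroup.
-/

set_option autoImplicit false

namespace CfsgLib.SporOut

open Cfsg

variable {G : Type*} [Group G] [Finite G]

theorem natCard_out_le {p : ℕ} [hp : Fact p.Prime] (hp2 : ¬ p ^ 2 ∣ Nat.card G) {a b c : G}
    (ha : orderOf a = p) {s : ℕ} (hb : b * a * b⁻¹ = a ^ s)
    (hgen : Subgroup.closure ({a, b, c} : Set G) = ⊤)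
    (hs1 : ((s : ZMod p) - 1) ≠ 0) (R : List ℕ)
    (hs : ∀ j < p, j ≠ 0 → ∃ i < p, ∃ r ∈ R, j * s ^ i % p = r % p)
    (hC : ∀ g : G, g * a = a * g → ∃ t : ℕ, g = a ^ t)
    (S : Finset (G × G))
    (hL : ∀ φ : MulAut G, φ b = b → (∃ r ∈ R, φ a = a ^ r) → (φ a, φ c) ∈ S) :
    Nat.card (Out G) ≤ S.card := by
  have hapow : ∀ m : ℕ, a ^ (m % p) = a ^ m := fun m => by rw [← ha, pow_mod_orderOf]
  have hsp : ¬ p ∣ s := fun hd => by
    have hz : a ^ s = 1 := orderOf_dvd_iff_pow_eq_one.1 (ha ▸ hd)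
    rw [hz] at hb
    rw [conj_eq_one_iff.1 hb, orderOf_one] at ha
    exact hp.out.one_lt.ne ha
  have rep : ∀ o : Out G, ∃ φ : MulAut G, QuotientGroup.mk φ = o ∧ φ b = b ∧
      ∃ r ∈ R, φ a = a ^ r := by
    intro o
    obtain ⟨φ, rfl⟩ := QuotientGroup.mk_surjective o
    have hmk : ∀ (g : G) (ψ : MulAut G),
        (QuotientGroup.mk (MulAut.conj g * ψ) : Out G) = QuotientGroup.mk ψ := by
      intro g ψ
      rw [QuotientGroup.mk_mul]
      have : (QuotientGroup.mk (MulAut.conj g) : Out G) = 1 :=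
        (QuotientGroup.eq_one_iff _).2 ⟨g, rfl⟩
      rw [this, one_mul]
    obtain ⟨g, j, hjp, hj0, hgj⟩ := MathieuOut.exists_conj_eq_pow hp2 ha
      (x := φ a) ((orderOf_injective φ.toMonoidHom φ.injective a).trans ha)
    obtain ⟨i, -, r, hr, hi⟩ := hs j hjp hj0
    set ψ : MulAut G := MulAut.conj (b ^ i * g) * φ with hψ
    have hψa : ψ a = a ^ r := by
      have h2 : ψ a = b ^ i * (g * φ a * g⁻¹) * (b ^ i)⁻¹ := by
        simp only [hψ, MulAut.mul_apply, MulAut.conj_apply, mul_inv_rev, mul_assoc]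
      rw [h2, hgj, ← conj_pow, MathieuOut.conj_pow_eq hb, ← pow_mul, mul_comm (s ^ i) j,
        ← hapow, hi, hapow]
    have hrp : ¬ p ∣ r := fun hd => by
      have : ψ a = 1 := by rw [hψa]; exact orderOf_dvd_iff_pow_eq_one.1 (ha ▸ hd)
      rw [map_eq_one_iff _ ψ.injective] at this
      rw [this, orderOf_one] at ha
      exact hp.out.one_lt.ne ha
    -- the image of `b` differs from `b` by a power of `a`
    have hcomm : ψ b * b⁻¹ * a = a * (ψ b * b⁻¹) := by
      have h1 : ψ b * ψ a * (ψ b)⁻¹ = ψ a ^ s := by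
        rw [← map_inv, ← map_mul, ← map_mul, hb, map_pow]
      rw [hψa, ← pow_mul] at h1
      have h3 : b * a ^ r * b⁻¹ = a ^ (r * s) := by rw [← conj_pow, hb, ← pow_mul, mul_comm]
      have h4 : ψ b * b⁻¹ * (a ^ (r * s)) * (ψ b * b⁻¹)⁻¹ = a ^ (r * s) := by
        calc ψ b * b⁻¹ * (a ^ (r * s)) * (ψ b * b⁻¹)⁻¹
            = ψ b * (b⁻¹ * (a ^ (r * s)) * b) * (ψ b)⁻¹ := by group
          _ = ψ b * a ^ r * (ψ b)⁻¹ := by rw [← h3]; group
          _ = a ^ (r * s) := h1
      have h5 : Commute (ψ b * b⁻¹) (a ^ (r * s)) := mul_inv_eq_iff_eq_mul.1 h4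
      have hcop : Nat.Coprime (r * s) (orderOf a) := by
        rw [ha]
        exact ((hp.out.coprime_iff_not_dvd).2 fun hd => (hp.out.dvd_mul.1 hd).elim hrp hsp).symm
      obtain ⟨m, hm⟩ := exists_pow_eq_self_of_coprime hcop
      have := h5.pow_right m
      rw [hm] at this
      exact this
    obtain ⟨t, ht⟩ := hC _ hcomm
    set u : ℕ := ((t : ZMod p) * ((s : ZMod p) - 1)⁻¹).val with hu
    have hψb : (MulAut.conj (a ^ u) * ψ) b = b := by
      have h1 : ψ b = a ^ t * b := by rw [← ht, inv_mul_cancel_right]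
      have h2 : b * a ^ u = a ^ (s * u) * b := by
        have h3 : b * a ^ u * b⁻¹ = a ^ (s * u) := by rw [← conj_pow, hb, ← pow_mul]
        rw [← h3, inv_mul_cancel_right]
      have h4 : a ^ (u + t) = a ^ (s * u) := by
        rw [pow_eq_pow_iff_modEq, ha, ← ZMod.natCast_eq_natCast_iff]
        simp only [Nat.cast_add, Nat.cast_mul, hu, ZMod.natCast_val, ZMod.cast_id', id_eq]
        field_simp
        ring
      calc (MulAut.conj (a ^ u) * ψ) b = a ^ (u + t) * b * (a ^ u)⁻¹ := by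
            rw [MulAut.mul_apply, MulAut.conj_apply, h1, pow_add]; group
        _ = b := by rw [h4, ← h2, mul_inv_cancel_right]
    refine ⟨MulAut.conj (a ^ u) * ψ, by rw [hmk, hψ, hmk], hψb, r, hr, ?_⟩
    have hau : Commute (a ^ u) (a ^ r) := ((Commute.refl a).pow_left u).pow_right r
    rw [MulAut.mul_apply, hψa, MulAut.conj_apply, hau.eq, mul_inv_cancel_right]
  choose Φ hΦ hΦb hΦa using rep
  have hmem : ∀ o, (Φ o a, Φ o c) ∈ S := fun o => hL _ (hΦb o) (hΦa o)
  have hinj : Function.Injective (fun o => (⟨_, hmem o⟩ : S)) := by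
    intro o o' h
    simp only [Subtype.mk.injEq, Prod.mk.injEq] at h
    have heq : (Φ o).toMonoidHom = (Φ o').toMonoidHom := by
      refine MonoidHom.eq_of_eqOn_dense hgen ?_
      rintro x (rfl | rfl | rfl)
      · exact h.1
      · exact (hΦb o).trans (hΦb o').symm
      · exact h.2
    rw [← hΦ o, ← hΦ o']
    congr 1
    exact MulEquiv.ext fun x => DFunLike.congr_fun heq x
  refine (Nat.card_le_card_of_injective _ hinj).trans ?_
  rw [Nat.card_eq_finsetCard]

end CfsgLib.SporOut
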