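import Cfsg.Agent.Lib.Spor.OutKit.Sift
import Cfsg.Agent.Lib.Spor.OutKit.Bound

/-!
Certificates showing that a group of permutations has exactly two outer automorphism classes.
-/

set_option autoImplicit false

namespace CfsgLib.SporOut

open CfsgLib.PresCert CfsgLib.SporOut.Tab Equiv Cfsg

/-- data of a certificate: the given generators of the tables are `a`, `b`, `c` -/
structure Data where
  /-- tables -/
  D : Tab
  /-- inverses -/
  inv : List Nat
  /-- levels with a base in an orbit of `a` -/
  lA : List Level
  /-- the point in that orbit -/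
  xA : Nat
  /-- exponents giving the base points -/
  eA : List Nat
  /-- levels with a base in an orbit of `b` -/
  lB : List Level
  /-- the point in that orbit -/
  xB : Nat
  /-- exponents giving the base points -/
  eB : List Nat
  /-- the order of `a` -/
  p : Nat
  /-- `b a b⁻¹ = a ^ s` -/
  s : Nat
  /-- `c b = b ^ k c` -/
  k : Nat
  /-- representatives of the generators of `⟨a⟩` -/
  R : List Nat
  /-- relations in the three letters, first letter acting first -/
  rels : List (List Nat)
  /-- the possible pairs -/
  pairs : List (Nat × Nat)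
  /-- the outer permutation -/
  sig : BTree
  /-- its inverse -/
  sigInv : BTree
  /-- words for the conjugates of `a`, `b`, `c` by it -/
  sigW : List (List Nat)
  /-- elements fixing `xB` -/
  stab : List Nat

namespace Data

variable (d : Data)

/-- the chain along the `a`-orbit -/
abbrev cA : Chain := ⟨d.D, d.lA, d.inv⟩

/-- the chain along the `b`-orbit -/
abbrev cB : Chain := ⟨d.D, d.lB, d.inv⟩

/-- two words act in the same way -/
noncomputable def sameW (u v : List Nat) : Bool :=
  allBelow d.D.n fun i => Nat.beq (d.D.app u i) (d.D.app v i)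

/-- two words act in the same way on the first three points -/
noncomputable def quickW (u v : List Nat) : Bool :=
  (List.range 3).all fun i => Nat.ble d.D.n i || Nat.beq (d.D.app u i) (d.D.app v i)

/-- the base exponents are right -/
noncomputable def okExp (l : List Level) (x g : Nat) : List Nat → Bool
  | [] => l.isEmpty
  | e :: es => match l with
    | [] => false
    | L :: ls => Nat.beq (d.D.app (List.replicate e g) x) L.base && okExp ls x g es

/-- everything commuting with `a` is a power of it -/
noncomputable def okA : Bool :=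
  allBelow d.D.n fun y =>
    match d.cA.sift d.lA (d.eA.map fun e => d.D.app (List.replicate e (nat_lit 0)) y) with
    | none => true
    | some w => !d.sameW (nat_lit 0 :: w) (w ++ [nat_lit 0]) ||
        (List.range d.p).any fun t => Nat.beq y (d.D.app (List.replicate t (nat_lit 0)) d.xA)

/-- substitute in a relation -/
noncomputable def subst (r : Nat) (w rel : List Nat) : List Nat :=
  rel.flatMap fun l =>
    bif Nat.beq l (nat_lit 0) then List.replicate r (nat_lit 0)
    else bif Nat.beq l (nat_lit 1) then [nat_lit 1] else w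

/-- the possible images of `c` -/
noncomputable def okB : Bool :=
  allBelow d.D.n fun y =>
    match d.cB.sift d.lB
        (d.eB.map fun e => d.D.app (List.replicate (Nat.mul d.k e) (nat_lit 1)) y) with
    | none => true
    | some w => !d.quickW (nat_lit 1 :: w) (w ++ List.replicate d.k (nat_lit 1)) || (d.R.all fun r => !(d.rels.all fun rel => d.sameW (subst r w rel) []) ||
        d.pairs.any fun q => Nat.beq q.1 r && Nat.beq q.2 y) ||
      !d.sameW (nat_lit 1 :: w) (w ++ List.replicate d.k (nat_lit 1))

/-- elementary relations -/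
noncomputable def okRel : Bool :=
  d.sameW (List.replicate d.p 0) [] && !d.sameW [0] [] &&
    d.sameW [0, 1] (1 :: List.replicate d.s 0) && d.sameW [1, 2] (2 :: List.replicate d.k 1) &&
    d.rels.all (fun rel => rel.all (fun l => Nat.blt l 3) && d.sameW rel [])

/-- image under the outer permutation -/
noncomputable def sg (i : Nat) : Nat := d.sig.half i

/-- the outer permutation normalises -/
noncomputable def okSig : Bool :=
  allBelow d.D.n (fun i =>
    Nat.blt (d.sg i) d.D.n && Nat.blt (d.sigInv.half i) d.D.n &&
      Nat.beq (d.sigInv.half (d.sg i)) i && Nat.beq (d.sg (d.sigInv.half i)) i) &&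
    (List.range 3).all fun l =>
      let w := d.sigW.getD l []
      (w.all fun j => Nat.blt j d.cB.N) &&
        allBelow d.D.n fun i => Nat.beq (d.sg (d.D.img l i)) (d.D.app w (d.sg i))

/-- the centraliser is trivial -/
noncomputable def okCent : Bool :=
  Nat.blt d.xB d.D.n &&
  (d.stab.all fun k => Nat.blt k d.cB.N && Nat.beq (d.D.img k d.xB) d.xB) &&
    allBelow d.D.n (fun y => Nat.beq y d.xB || d.stab.any fun k => !Nat.beq (d.D.img k y) y) &&
    match d.lB with
    | [] => false
    | L :: _ => Nat.beq L.base d.xB && allBelow d.D.n fun y =>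
        Nat.blt (L.pos.word y) L.len && Nat.beq (Chain.pt L (L.pos.word y)) y

/-- the outer permutation is not in the group -/
noncomputable def okOuter : Bool :=
  match d.cB.sift d.lB (d.cB.bases.map d.sg) with
  | none => true
  | some w => !allBelow d.D.n fun i => Nat.beq (d.D.app w i) (d.sg i)

/-- all checks -/
structure Valid : Prop where
  words : d.D.okWords d.D.g d.D.words = true
  three : d.D.g = 3
  inv : d.cA.okInv = true
  levA : d.D.okLevels [] d.lA = true
  levB : d.D.okLevels [] d.lB = true
  expA : d.okExp d.lA d.xA 0 d.eA = true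
  expB : d.okExp d.lB d.xB 1 d.eB = true
  xA : d.xA < d.D.n
  s1 : ((d.s : ZMod d.p) - 1) ≠ 0
  hs : ∀ j < d.p, j ≠ 0 → ∃ i < d.p, ∃ r ∈ d.R, j * d.s ^ i % d.p = r % d.p
  rel : d.okRel = true
  a : d.okA = true
  b : d.okB = true
  npairs : d.pairs.length ≤ 2
  sig : d.okSig = true
  cent : d.okCent = true
  outer : d.okOuter = true

end Data

theorem allBin_intro (n : Nat) (p : Nat → Bool) (h : ∀ i < n, p i = true) :
    ∀ d lo, allBin n p d lo = true := by
  intro d
  induction d with
  | zero =>
    intro lo
    cases hb : Nat.ble n lo with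
    | true => simp [allBin, hb]
    | false =>
      have : p lo = true := h lo (by
        by_contra hc
        rw [Nat.ble_eq_true_of_le (Nat.le_of_not_lt hc)] at hb
        exact Bool.noConfusion hb)
      simp [allBin, hb, this]
  | succ k ih =>
    intro lo
    change (Bool.rec (Bool.rec false (allBin n p k (lo + Nat.shiftLeft 1 k)) (allBin n p k lo))
      true (Nat.ble n lo) : Bool) = true
    cases Nat.ble n lo with
    | true => rfl
    | false => simp [ih]

theorem allBelow_intro {n : Nat} (hn : n ≤ 16777216) {p : Nat → Bool}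
    (h : ∀ i < n, p i = true) : allBelow n p = true := by
  simp only [allBelow, Nat.ble_eq_true_of_le hn]
  exact allBin_intro n p h _ _

theorem le_of_allBelow {n : Nat} {p : Nat → Bool} (h : allBelow n p = true) : n ≤ 16777216 := by
  cases hb : Nat.ble n 16777216 with
  | false => simp [allBelow, hb] at h
  | true => exact Nat.le_of_ble_eq_true hb

open Chain Data in
theorem natCard_out_eq_two (d : Data) (h : d.Valid) [hp : Fact d.p.Prime]
    {G : Type*} [Group G] [Finite G] {N : ℕ} (hN : Nat.card G = N) (hp2 : ¬ d.p ^ 2 ∣ N)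
    (hA : (d.lA.map Level.len).prod = N) (hB : (d.lB.map Level.len).prod = N)
    (π : G →* Perm (Fin d.D.n)) (gens : Nat → G)
    (hgens : ∀ l < 3, ∀ i : Fin d.D.n, ((π (gens l) i : Fin d.D.n) : Nat) = d.D.img l i) :
    Nat.card (Out G) = 2 := by
  classical
  have h3 := h.three
  let I : d.D.Interp := ⟨fun l => π (gens l), fun l hl i => hgens l (h3 ▸ hl) i⟩
  have hgle : grp I ≤ π.range := by
    rw [grp, Subgroup.closure_le]
    rintro _ ⟨l, -, rfl⟩
    exact ⟨gens l, rfl⟩
  have hlow := Chain.le_card (C := d.cA) I h.words h.levA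
  rw [show (d.cA.levels.map Level.len).prod = N from hA, ← hN] at hlow
  have hrange : Nat.card π.range ≤ Nat.card G :=
    Nat.card_le_card_of_surjective π.rangeRestrict π.rangeRestrict_surjective
  have hgc : Nat.card (grp I) = Nat.card G :=
    le_antisymm ((Subgroup.card_le_of_le hgle).trans hrange) hlow
  have hgeq : grp I = π.range := Subgroup.eq_of_le_of_card_ge hgle (hgc ▸ hrange)
  have hπ : Function.Injective π := by
    have hs := π.rangeRestrict_surjective
    have e : Nat.card G = Nat.card π.range := by rw [← hgeq, hgc]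
    have := (Nat.bijective_iff_surjective_and_card π.rangeRestrict).2 ⟨hs, e⟩
    exact fun x y hxy => this.1 (Subtype.ext hxy)
  have hcA : Nat.card (grp I) ≤ (d.lA.map Level.len).prod := by rw [hA, hgc, hN]
  have hcB : Nat.card (grp I) ≤ (d.lB.map Level.len).prod := by rw [hB, hgc, hN]
  have hmem : ∀ x : G, π x ∈ grp I := fun x => hgeq ▸ ⟨x, rfl⟩
  -- the three elements generate
  have hgen : Subgroup.closure ({gens 0, gens 1, gens 2} : Set G) = ⊤ := by
    refine Subgroup.map_injective hπ ?_
    rw [← MonoidHom.range_eq_map, ← hgeq]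
    refine le_antisymm ?_ ?_
    · rw [MonoidHom.map_closure, Subgroup.closure_le]
      rintro _ ⟨x, -, rfl⟩
      exact hmem x
    · rw [grp, Subgroup.closure_le]
      rintro _ ⟨l, hl, rfl⟩
      refine Subgroup.mem_map_of_mem π (Subgroup.subset_closure ?_)
      rw [h3] at hl
      interval_cases l <;> simp
  -- words
  have happ : ∀ (w : List Nat), (∀ l ∈ w, l < 3) → ∀ i : Fin d.D.n,
      ((π ((w.map gens).reverse.prod) i : Fin d.D.n) : Nat) = d.D.app w i := by
    intro w
    induction w with
    | nil => intro _ i; simp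
    | cons l w ih =>
      intro hw i
      obtain ⟨hl, hw'⟩ := List.forall_mem_cons.1 hw
      rw [List.map_cons, List.reverse_cons, List.prod_append, List.prod_singleton, map_mul,
        Perm.mul_apply, ih hw', hgens l hl]
      rfl
  have hsame : ∀ u v : List Nat, (∀ l ∈ u, l < 3) → (∀ l ∈ v, l < 3) → d.sameW u v = true →
      (u.map gens).reverse.prod = (v.map gens).reverse.prod := by
    intro u v hu hv e
    refine hπ (Equiv.ext fun i => Fin.ext ?_)
    rw [happ u hu, happ v hv]
    exact Nat.eq_of_beq_eq_true (allBelow_spec e i i.2)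
  have hrep : ∀ (e l : ℕ), ((List.replicate e l).map gens).reverse.prod = gens l ^ e := by
    intro e l; rw [List.map_replicate, List.reverse_replicate, List.prod_replicate]
  have hrlt : ∀ (e l : ℕ), l < 3 → ∀ j ∈ List.replicate e l, j < 3 := fun e l hl j hj => by
    rw [List.eq_of_mem_replicate hj]; exact hl
  have happr : ∀ (e l : ℕ), l < 3 → ∀ i : Fin d.D.n,
      ((π (gens l ^ e) i : Fin d.D.n) : Nat) = d.D.app (List.replicate e l) i := fun e l hl i => by
    rw [← hrep, happ _ (hrlt e l hl)]
  have hr := h.rel
  simp only [okRel, Bool.and_eq_true, Bool.not_eq_true', List.all_eq_true, Nat.blt_eq] at hr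
  obtain ⟨⟨⟨⟨hr1, hr2⟩, hr3⟩, hr4⟩, hr5⟩ := hr
  have hap : gens 0 ^ d.p = 1 := by
    have := hsame _ _ (hrlt _ _ (by norm_num)) (by simp) hr1
    rwa [hrep] at this
  have hn := le_of_allBelow h.a
  have hsame' : ∀ u v : List Nat, (∀ i : Fin d.D.n, d.D.app u i = d.D.app v i) →
      d.sameW u v = true := fun u v e => allBelow_intro hn fun i hi => by
    rw [e ⟨i, hi⟩]; exact Nat.beq_refl _
  have ha1 : gens 0 ≠ 1 := by
    intro e
    have : d.sameW [0] [] = true := hsame' _ _ fun i => by
      rw [← happ [0] (by simp), ← happ [] (by simp)]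
      simp [e]
    rw [hr2] at this
    exact Bool.noConfusion this
  have hord : orderOf (gens 0) = d.p := orderOf_eq_prime hap ha1
  have hba : gens 1 * gens 0 * (gens 1)⁻¹ = gens 0 ^ d.s := by
    have := hsame [0, 1] _ (by simp) (fun l hl => by
      rcases List.mem_cons.1 hl with rfl | hl
      · norm_num
      · exact hrlt _ _ (by norm_num) l hl) hr3
    simp only [List.map_cons, List.map_nil, List.reverse_cons, List.reverse_nil, List.nil_append,
      List.prod_append, List.prod_singleton, List.prod_cons, List.prod_nil, mul_one, hrep] at this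
    rw [this, mul_inv_cancel_right]
  have hcb : gens 2 * gens 1 = gens 1 ^ d.k * gens 2 := by
    have := hsame [1, 2] _ (by simp) (fun l hl => by
      rcases List.mem_cons.1 hl with rfl | hl
      · norm_num
      · exact hrlt _ _ (by norm_num) l hl) hr4
    simp only [List.map_cons, List.map_nil, List.reverse_cons, List.reverse_nil, List.nil_append,
      List.prod_append, List.prod_singleton, List.prod_cons, List.prod_nil, mul_one, hrep] at this
    exact this
  -- elements with prescribed base images
  have hsift : ∀ (C : Chain), C = d.cA ∨ C = d.cB → ∀ (x : G) (ys : List Nat) (f : Nat → Nat),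
      (∀ i : Fin d.D.n, ((π x i : Fin d.D.n) : Nat) = f i) → C.bases.map f = ys →
      ∃ w, C.sift C.levels ys = some w ∧
        ∀ i : Fin d.D.n, ((π x i : Fin d.D.n) : Nat) = d.D.app w i := by
    rintro C (rfl | rfl) x ys f hf rfl
    · obtain ⟨w, h1, h2, h3⟩ := Chain.sift_spec (C := d.cA) I h.words h.levA h.inv hcA (hmem x) f hf
      exact ⟨w, h1, fun i => by rw [← h3]; exact ev_img I h.words w h2 i⟩
    · obtain ⟨w, h1, h2, h3⟩ := Chain.sift_spec (C := d.cB) I h.words h.levB h.inv hcB (hmem x) f hf
      exact ⟨w, h1, fun i => by rw [← h3]; exact ev_img I h.words w h2 i⟩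
  -- base points in one orbit
  have hexp : ∀ (l : List Level) (x g : ℕ) (es : List ℕ), d.okExp l x g es = true →
      l.map Level.base = es.map fun e => d.D.app (List.replicate e g) x := by
    intro l x g es
    induction es generalizing l with
    | nil =>
      intro e
      cases l with
      | nil => rfl
      | cons L ls => simp [okExp] at e
    | cons e es ih =>
      intro he
      cases l with
      | nil => simp [okExp] at he
      | cons L ls =>
        simp only [okExp, Bool.and_eq_true] at he
        simp [Nat.eq_of_beq_eq_true he.1, ih ls he.2]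
  -- images of the base points of an element conjugating one generator to a power
  have hbase : ∀ (x : G) (g m : ℕ) (hg : g < 3) (pt : Fin d.D.n) (es : List ℕ) (f : Nat → Nat),
      x * gens g = gens g ^ m * x → (∀ i : Fin d.D.n, ((π x i : Fin d.D.n) : Nat) = f i) →
      (es.map fun e => d.D.app (List.replicate e g) pt).map f =
        es.map fun e => d.D.app (List.replicate (m * e) g) ((π x pt : Fin d.D.n) : Nat) := by
    intro x g m hg pt es f hx hf
    rw [List.map_map]
    refine List.map_congr_left fun e _ => ?_
    rw [Function.comp, ← happr e g hg, ← hf, ← happr (m * e) g hg]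
    have he : x * gens g ^ e = gens g ^ (m * e) * x := by
      rw [pow_mul]; exact SemiconjBy.pow_right hx e
    rw [← Perm.mul_apply, ← map_mul, he, map_mul, Perm.mul_apply]
  -- an element is determined by its image of the point
  have huniq : ∀ (C : Chain), C = d.cA ∨ C = d.cB → ∀ (x y : G) (g m : ℕ) (hg : g < 3)
      (pt : Fin d.D.n) (es : List ℕ),
      C.bases = (es.map fun e => d.D.app (List.replicate e g) pt) →
      x * gens g = gens g ^ m * x → y * gens g = gens g ^ m * y → π x pt = π y pt → x = y := by
    intro C hC x y g m hg pt es hes hx hy he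
    let f : G → Nat → Nat := fun z i => if hi : i < d.D.n then (π z ⟨i, hi⟩ : Fin d.D.n) else 0
    have hf : ∀ z (i : Fin d.D.n), ((π z i : Fin d.D.n) : Nat) = f z i := fun z i => by simp [f]
    obtain ⟨w, h1, h2⟩ := hsift C hC x _ _ (hf x) rfl
    obtain ⟨w', h1', h2'⟩ := hsift C hC y _ _ (hf y) rfl
    rw [hes, hbase x g m hg pt es _ hx (hf x)] at h1
    rw [hes, hbase y g m hg pt es _ hy (hf y), ← he, h1, Option.some_inj] at h1'
    exact hπ (Equiv.ext fun i => Fin.ext (by rw [h2 i, h2' i, h1']))
  have hbA : d.cA.bases = d.eA.map fun e => d.D.app (List.replicate e 0) d.xA :=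
    hexp _ _ _ _ h.expA
  have hbB : d.cB.bases = d.eB.map fun e => d.D.app (List.replicate e 1) d.xB :=
    hexp _ _ _ _ h.expB
  -- the centraliser of `a`
  have hC : ∀ g : G, g * gens 0 = gens 0 * g → ∃ t : ℕ, g = gens 0 ^ t := by
    intro g hg
    let pt : Fin d.D.n := ⟨d.xA, h.xA⟩
    let f : Nat → Nat := fun i => if hi : i < d.D.n then (π g ⟨i, hi⟩ : Fin d.D.n) else 0
    have hf : ∀ i : Fin d.D.n, ((π g i : Fin d.D.n) : Nat) = f i := fun i => by simp [f]
    have hg1 : g * gens 0 = gens 0 ^ 1 * g := by rw [pow_one, hg]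
    obtain ⟨w, h1, h2⟩ := hsift d.cA (Or.inl rfl) g _ f hf rfl
    rw [hbA, hbase g 0 1 (by norm_num) pt d.eA f hg1 hf] at h1
    simp only [one_mul] at h1
    have hc := allBelow_spec h.a _ (π g pt).2
    change (match d.cA.sift d.lA _ with | none => true | some w => _) = true at hc
    rw [show d.cA.sift d.lA (d.eA.map fun e =>
      d.D.app (List.replicate e (nat_lit 0)) ((π g pt : Fin d.D.n) : Nat)) = some w from h1] at hc
    simp only [Bool.or_eq_true, Bool.not_eq_true', List.any_eq_true, List.mem_range] at hc
    rcases hc with hc | ⟨t, -, ht⟩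
    · exfalso
      have : d.sameW (0 :: w) (w ++ [0]) = true := hsame' _ _ fun i => by
        rw [app_append]
        simp only [app_cons, app_nil]
        rw [← hgens 0 (by norm_num), ← h2, ← h2, ← hgens 0 (by norm_num), ← Perm.mul_apply,
          ← map_mul, ← Perm.mul_apply, ← map_mul, hg]
      rw [this] at hc; exact Bool.noConfusion hc
    · refine ⟨t, huniq d.cA (Or.inl rfl) g _ 0 1 (by norm_num) pt d.eA hbA hg1 ?_ (Fin.ext ?_)⟩
      · rw [pow_one]; exact (Commute.pow_self (gens 0) t).eq
      · rw [happr t 0 (by norm_num)]; exact Nat.eq_of_beq_eq_true ht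
  -- the pairs
  let pB : Fin d.D.n := ⟨d.xB, by
    have hc := h.cent
    simp only [okCent, Bool.and_eq_true, Nat.blt_eq] at hc
    exact hc.1.1.1⟩
  let F : Nat × Nat → G × G := fun q => (gens 0 ^ q.1,
    if hq : ∃ x : G, x * gens 1 = gens 1 ^ d.k * x ∧ ((π x pB : Fin d.D.n) : Nat) = q.2
    then hq.choose else 1)
  have hupper : Nat.card (Out G) ≤ (d.pairs.map F).toFinset.card := by
    refine natCard_out_le (hN ▸ hp2) hord hba hgen h.s1 d.R h.hs hC _ ?_
    rintro φ hφb ⟨r, hrR, hφa⟩
    set x := φ (gens 2) with hxdef
    have hx : x * gens 1 = gens 1 ^ d.k * x := by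
      have := congrArg φ hcb
      rwa [map_mul, map_mul, map_pow, hφb] at this
    let f : Nat → Nat := fun i => if hi : i < d.D.n then (π x ⟨i, hi⟩ : Fin d.D.n) else 0
    have hf : ∀ i : Fin d.D.n, ((π x i : Fin d.D.n) : Nat) = f i := fun i => by simp [f]
    obtain ⟨w, h1, h2⟩ := hsift d.cB (Or.inr rfl) x _ f hf rfl
    rw [hbB, hbase x 1 d.k (by norm_num) pB d.eB f hx hf] at h1
    have hc := allBelow_spec h.b _ (π x pB).2
    change (match d.cB.sift d.lB _ with | none => true | some w => _) = true at hc
    rw [show d.cB.sift d.lB (d.eB.map fun e =>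
      d.D.app (List.replicate (Nat.mul d.k e) (nat_lit 1)) ((π x pB : Fin d.D.n) : Nat)) = some w
        from h1] at hc
    have hxw : ∀ i : Fin d.D.n, d.D.app (1 :: w) i = d.D.app (w ++ List.replicate d.k 1) i := by
      intro i
      rw [app_append]
      simp only [app_cons, app_nil]
      rw [← hgens 1 (by norm_num), ← h2, ← h2, ← happr d.k 1 (by norm_num), ← Perm.mul_apply,
        ← map_mul, ← Perm.mul_apply, ← map_mul, hx]
    have hq : d.quickW (1 :: w) (w ++ List.replicate d.k 1) = true := by
      simp only [quickW, List.all_eq_true, List.mem_range, Bool.or_eq_true]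
      intro i _
      rcases lt_or_ge i d.D.n with hi | hi
      · exact Or.inr (by rw [hxw ⟨i, hi⟩]; exact Nat.beq_refl _)
      · exact Or.inl (Nat.ble_eq_true_of_le hi)
    simp only [Bool.or_eq_true, Bool.not_eq_true', hsame' _ _ hxw, hq, List.all_eq_true,
      List.any_eq_true, Bool.and_eq_true, reduceCtorEq, or_false, false_or] at hc
    obtain hc | ⟨q, hq, hq1, hq2⟩ := hc r hrR
    · exfalso
      have hall : (d.rels.all fun rel => d.sameW (subst r w rel) []) = true := by
        rw [List.all_eq_true]
        intro rel hrel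
        obtain ⟨hl3, he⟩ := hr5 rel hrel
        have e1 := hsame rel [] hl3 (by simp) he
        refine hsame' _ _ fun i => ?_
        have key : ∀ (l : List Nat), (∀ j ∈ l, j < 3) → ∀ i : Fin d.D.n,
            ((π (φ ((l.map gens).reverse.prod)) i : Fin d.D.n) : Nat) =
              d.D.app (subst r w l) i := by
          intro l
          induction l with
          | nil => intro _ i; simp [subst]
          | cons j l ihl =>
            intro hl i
            obtain ⟨hj, hl'⟩ := List.forall_mem_cons.1 hl
            rw [List.map_cons, List.reverse_cons, List.prod_append, List.prod_singleton, map_mul,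
              map_mul, Perm.mul_apply, ihl hl']
            simp only [subst, List.flatMap_cons, app_append]
            congr 1
            interval_cases j
            · rw [hφa, happr r 0 (by norm_num)]; rfl
            · rw [hφb, hgens 1 (by norm_num)]; rfl
            · exact h2 i
        rw [← key rel hl3, e1]
        simp
      rw [hall] at hc
      exact Bool.noConfusion hc
    · have hq1' := Nat.eq_of_beq_eq_true hq1
      have hq2' := Nat.eq_of_beq_eq_true hq2
      refine List.mem_toFinset.2 (List.mem_map.2 ⟨q, hq, Prod.ext ?_ ?_⟩)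
      · show gens 0 ^ q.1 = _
        rw [hφa, hq1']
      · have hex : ∃ x : G, x * gens 1 = gens 1 ^ d.k * x ∧
            ((π x pB : Fin d.D.n) : Nat) = q.2 := ⟨x, hx, hq2'.symm⟩
        show (if hq' : ∃ z : G, z * gens 1 = gens 1 ^ d.k * z ∧
            ((π z pB : Fin d.D.n) : Nat) = q.2 then hq'.choose else 1) = _
        rw [dif_pos hex]
        exact huniq d.cB (Or.inr rfl) _ x 1 d.k (by norm_num) pB d.eB hbB hex.choose_spec.1 hx
          (Fin.ext (hex.choose_spec.2.trans hq2'))
  replace hupper : Nat.card (Out G) ≤ 2 :=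
    hupper.trans ((List.toFinset_card_le _).trans (by simpa using h.npairs))
  -- the outer automorphism
  have hs := h.sig
  simp only [okSig, Bool.and_eq_true, List.all_eq_true, List.mem_range, Nat.blt_eq] at hs
  obtain ⟨hs1, hs2⟩ := hs
  have hs1' := fun i hi => allBelow_spec hs1 i hi
  simp only [Bool.and_eq_true, Nat.blt_eq] at hs1'
  let σ : Perm (Fin d.D.n) :=
    { toFun := fun i => ⟨d.sg i, (hs1' i i.2).1.1.1⟩
      invFun := fun i => ⟨d.sigInv.half i, (hs1' i i.2).1.1.2⟩
      left_inv := fun i => Fin.ext (Nat.eq_of_beq_eq_true (hs1' i i.2).1.2)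
      right_inv := fun i => Fin.ext (Nat.eq_of_beq_eq_true (hs1' i i.2).2) }
  let f : G →* Perm (Fin d.D.n) := (MulAut.conj σ).toMonoidHom.comp π
  have hgf : ∀ l < 3, f (gens l) ∈ π.range := by
    intro l hl
    obtain ⟨hwN, hw⟩ := hs2 l hl
    rw [← hgeq]
    have e : f (gens l) = ev I h.words (C := d.cB) (d.sigW.getD l []) := by
      refine Equiv.ext fun j => Fin.ext ?_
      rw [ev_img (C := d.cB) I h.words _ hwN]
      obtain ⟨i, rfl⟩ := σ.surjective j
      show ((σ * π (gens l) * σ⁻¹) (σ i) : Fin d.D.n).val = _
      rw [Perm.mul_apply, Perm.mul_apply, Perm.inv_def, Equiv.symm_apply_apply]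
      show d.sg ((π (gens l) i : Fin d.D.n) : Nat) = d.D.app _ (d.sg i)
      rw [hgens l hl]
      exact Nat.eq_of_beq_eq_true (allBelow_spec hw i i.2)
    rw [e]
    exact ev_mem (C := d.cB) I h.words _
  have hfr : f.range ≤ π.range := by
    rw [MonoidHom.range_eq_map, ← hgen, MonoidHom.map_closure, Subgroup.closure_le]
    rintro _ ⟨x, (rfl | rfl | rfl), rfl⟩
    exacts [hgf 0 (by norm_num), hgf 1 (by norm_num), hgf 2 (by norm_num)]
  let ψ : G →* G :=
    (MonoidHom.ofInjective hπ).symm.toMonoidHom.comp (f.codRestrict π.range fun x => hfr ⟨x, rfl⟩)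
  have hψ : ∀ x, π (ψ x) = σ * π x * σ⁻¹ := fun x => by
    show π ((MonoidHom.ofInjective hπ).symm ⟨f x, hfr ⟨x, rfl⟩⟩) = _
    rw [MonoidHom.apply_ofInjective_symm]
    rfl
  have hψi : Function.Injective ψ := fun x y e => hπ (by
    have := hψ x
    rw [e, hψ y] at this
    exact (mul_left_cancel (mul_right_cancel this)).symm)
  let Ψ : MulAut G := MulEquiv.ofBijective ψ ⟨hψi, Finite.injective_iff_surjective.1 hψi⟩
  have hne : (QuotientGroup.mk Ψ : Out G) ≠ 1 := by
    intro e
    obtain ⟨g, hg⟩ := (QuotientGroup.eq_one_iff _).1 e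
    have hc := h.cent
    simp only [okCent, Bool.and_eq_true, List.all_eq_true, Nat.blt_eq] at hc
    obtain ⟨⟨⟨-, hstab⟩, hfix⟩, htr⟩ := hc
    -- the permutation differs from that element by a central one
    set z := (π g)⁻¹ * σ with hz
    have hzc : ∀ x, z * π x = π x * z := by
      intro x
      have e1 : π (g * x * g⁻¹) = σ * π x * σ⁻¹ := by
        rw [← hψ]
        exact congrArg π (DFunLike.congr_fun hg x)
      rw [map_mul, map_mul, map_inv] at e1
      rw [hz]
      calc (π g)⁻¹ * σ * π x = (π g)⁻¹ * (σ * π x * σ⁻¹) * σ := by group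
        _ = (π g)⁻¹ * (π g * π x * (π g)⁻¹) * σ := by rw [e1]
        _ = π x * ((π g)⁻¹ * σ) := by group
    have hzb : z pB = pB := by
      have hd := allBelow_spec hfix _ (z pB).2
      simp only [Bool.or_eq_true, List.any_eq_true, Bool.not_eq_true'] at hd
      rcases hd with hd | ⟨k, hk, hd⟩
      · exact Fin.ext (Nat.eq_of_beq_eq_true hd)
      · exfalso
        obtain ⟨hkN, hkf⟩ := hstab k hk
        obtain ⟨x, hx⟩ : el (C := d.cB) I h.words k ∈ π.range := hgeq ▸ el_mem (C := d.cB) I h.words k
        have h1 : ((π x (z pB) : Fin d.D.n) : Nat) = z pB := by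
          rw [← Perm.mul_apply, ← hzc, Perm.mul_apply]
          congr 2
          refine Fin.ext ?_
          rw [hx, el_img (C := d.cB) I h.words hkN]
          exact Nat.eq_of_beq_eq_true hkf
        rw [hx, el_img (C := d.cB) I h.words hkN] at h1
        rw [show d.cB.D.img k ((z pB : Fin d.D.n) : Nat) = d.D.img k (z pB) from rfl] at h1
        rw [h1, Nat.beq_refl] at hd
        exact Bool.noConfusion hd
    have hz1 : z = 1 := by
      refine Equiv.ext fun i => ?_
      rw [Perm.one_apply]
      obtain ⟨x, hx⟩ : ∃ x, π x pB = i := by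
        cases hl : d.lB with
        | nil => rw [hl] at htr; simp at htr
        | cons L ls =>
          rw [hl] at htr
          simp only [Bool.and_eq_true] at htr
          obtain ⟨hLb, hall⟩ := htr
          have hi := allBelow_spec hall i i.2
          simp only [Bool.and_eq_true, Nat.blt_eq] at hi
          have hl' : d.cB.D.okLevels [] (L :: ls) = true := hl ▸ h.levB
          obtain ⟨hm, hv⟩ := trans_spec (C := d.cB) I h.words hl' hi.1
          obtain ⟨x, hx⟩ : ev (C := d.cB) I h.words (path L L.len (L.pos.word i)) ∈ π.range :=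
            hgeq ▸ hm.1
          refine ⟨x, Fin.ext ?_⟩
          rw [hx, hv pB (Nat.eq_of_beq_eq_true hLb).symm, Nat.eq_of_beq_eq_true hi.2]
      rw [← hx, ← Perm.mul_apply, hzc, Perm.mul_apply, hzb]
    have hσg : π g = σ := inv_mul_eq_one.1 hz1
    obtain ⟨w, h1, h2⟩ := hsift d.cB (Or.inr rfl) g _ d.sg (fun i => by rw [hσg]; rfl) rfl
    have ho := h.outer
    rw [okOuter, show d.cB.sift d.lB (d.cB.bases.map d.sg) = some w from h1] at ho
    simp only [Bool.not_eq_true'] at ho
    have : allBelow d.D.n (fun i => Nat.beq (d.D.app w i) (d.sg i)) = true :=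
      allBelow_intro hn fun i hi => by
        rw [← h2 ⟨i, hi⟩, hσg]
        exact Nat.beq_refl _
    rw [this] at ho
    exact Bool.noConfusion ho
  refine le_antisymm hupper ?_
  have : Nontrivial (Out G) := ⟨⟨_, 1, hne⟩⟩
  exact Finite.one_lt_card

end CfsgLib.SporOut
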