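import Cfsg.Agent.Lib.Spor.OutKit.Tab

/-!
Sifting along a base whose orbit lengths multiply to the order of the group: every element of the
group is recovered from the images of the base points.
-/

set_option autoImplicit false

namespace CfsgLib.SporOut

open CfsgLib.PresCert CfsgLib.SporOut.Tab Equiv

/-- permutation tables with a base and a table of inverses -/
structure Chain where
  /-- the tables -/
  D : Tab
  /-- the levels along the base -/
  levels : List Level
  /-- position of the inverse of each element -/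
  inv : List Nat

namespace Chain

variable (C : Chain)

/-- number of elements -/
noncomputable def N : Nat := C.D.N

/-- the base points -/
def bases : List Nat := C.levels.map Level.base

/-- point at a position of an orbit -/
noncomputable def pt (L : Level) (p : Nat) : Nat := Nat.land (L.orb.word p) (nat_lit 65535)

/-- the word carrying the base point of a level to the orbit point at position `p` -/
noncomputable def path (L : Level) : Nat → Nat → List Nat
  | 0, _ => []
  | fuel + 1, p =>
    bif Nat.beq p (nat_lit 0) then []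
    else path L fuel (Nat.land (Nat.shiftRight (L.orb.word p) (nat_lit 16)) (nat_lit 65535))
      ++ [L.gens.getD (Nat.shiftRight (L.orb.word p) (nat_lit 32)) (nat_lit 0)]

/-- the word of inverses -/
noncomputable def invWord (w : List Nat) : List Nat :=
  w.reverse.map fun k => C.inv.getD k (nat_lit 0)

/-- find an element from the images of the base points -/
noncomputable def sift : List Level → List Nat → Option (List Nat)
  | [], _ => some []
  | _ :: _, [] => none
  | L :: ls, y :: ys =>
    let p := L.pos.word y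
    bif Nat.blt p L.len && Nat.beq (pt L p) y then
      let w := path L L.len p
      let u := C.invWord w
      match sift ls (ys.map fun z => C.D.app u z) with
      | none => none
      | some v => some (v ++ w)
    else none

/-- the table of inverses is correct -/
noncomputable def okInv : Bool :=
  allBelow C.N fun k =>
    let j := C.inv.getD k (nat_lit 0)
    Nat.blt j C.N && allBelow C.D.n fun i => Nat.beq (C.D.img j (C.D.img k i)) i

variable {C}

variable (I : C.D.Interp) (hw : C.D.okWords C.D.g C.D.words = true)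

/-- the element with index `k` -/
noncomputable def el (k : Nat) : Perm (Fin C.D.n) :=
  if h : k < C.D.N then (elem_exists I hw k h).choose else 1

theorem el_mem (k : Nat) : el I hw k ∈ grp I := by
  unfold el
  split
  next h => exact (elem_exists I hw k h).choose_spec.1
  next => exact one_mem _

theorem el_img {k : Nat} (h : k < C.N) (i : Fin C.D.n) :
    ((el I hw k i : Fin C.D.n) : Nat) = C.D.img k i := by
  have h' : k < C.D.N := h
  unfold el
  rw [dif_pos h']
  exact (elem_exists I hw k h').choose_spec.2 i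

/-- value of a word, the first letter acting first -/
noncomputable def ev : List Nat → Perm (Fin C.D.n)
  | [] => 1
  | k :: w => ev w * el I hw k

theorem ev_mem : ∀ w : List Nat, ev I hw w ∈ grp I
  | [] => one_mem _
  | k :: w => mul_mem (ev_mem w) (el_mem I hw k)

theorem ev_img : ∀ (w : List Nat), (∀ k ∈ w, k < C.N) → ∀ i : Fin C.D.n,
    ((ev I hw w i : Fin C.D.n) : Nat) = C.D.app w i
  | [], _, _ => rfl
  | k :: w, h, i => by
    obtain ⟨hk, hw'⟩ := List.forall_mem_cons.1 h
    rw [ev, Perm.mul_apply, ev_img w hw', el_img I hw hk]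
    rfl

theorem ev_append : ∀ u v : List Nat, ev I hw (u ++ v) = ev I hw v * ev I hw u
  | [], v => by simp [ev]
  | k :: u, v => by simp [ev, ev_append u v, mul_assoc]

theorem ev_invWord (hi : C.okInv = true) : ∀ w : List Nat, (∀ k ∈ w, k < C.N) →
    (∀ k ∈ C.invWord w, k < C.N) ∧ ev I hw (C.invWord w) = (ev I hw w)⁻¹ := by
  intro w
  induction w with
  | nil => exact fun _ => ⟨by simp [invWord], by simp [invWord, ev]⟩
  | cons k w ih =>
    intro h
    obtain ⟨hk, hw'⟩ := List.forall_mem_cons.1 h
    obtain ⟨h1, h2⟩ := ih hw'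
    have e : C.invWord (k :: w) = C.invWord w ++ [C.inv.getD k 0] := by simp [invWord]
    have hs := allBelow_spec hi k hk
    simp only [Bool.and_eq_true, Nat.blt_eq] at hs
    have hje : el I hw (C.inv.getD k 0) * el I hw k = 1 := by
      refine Equiv.ext fun i => Fin.ext ?_
      rw [Perm.mul_apply, el_img I hw hs.1, el_img I hw hk,
        Nat.eq_of_beq_eq_true (allBelow_spec hs.2 i i.2), Perm.one_apply]
    constructor
    · rw [e]
      intro j hj
      rcases List.mem_append.1 hj with h' | h'
      · exact h1 j h'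
      · rw [List.mem_singleton.1 h']; exact hs.1
    · rw [e, ev_append, h2, show ev I hw [C.inv.getD k 0] = el I hw (C.inv.getD k 0) by simp [ev],
        eq_inv_of_mul_eq_one_left hje, ev, mul_inv_rev]

/-- decompositions along the transversals -/
def Dec : List Level → Perm (Fin C.D.n) → Prop
  | [], σ => σ = 1
  | L :: ls, σ => ∃ p, p < L.len ∧ ∃ σ', Dec ls σ' ∧ σ = ev I hw (path L L.len p) * σ'

theorem level_facts {L : Level} {ls : List Level} {bs : List Nat}
    (h : C.D.okLevels bs (L :: ls) = true) :
    L.base < C.D.n ∧ pt L 0 = L.base ∧ (∀ k ∈ L.gens, k < C.N) ∧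
    (∀ p, p < L.len → pt L p < C.D.n ∧ L.pos.word (pt L p) = p ∧ (p = 0 ∨
      (Nat.land (Nat.shiftRight (L.orb.word p) 16) 65535 < p ∧
        Nat.shiftRight (L.orb.word p) 32 < L.gens.length ∧
        C.D.img (L.gens.getD (Nat.shiftRight (L.orb.word p) 32) 0)
          (pt L (Nat.land (Nat.shiftRight (L.orb.word p) 16) 65535)) = pt L p))) ∧
    (∀ k ∈ L.gens, ∀ b ∈ bs, C.D.img k b = b) ∧
    C.D.okLevels (L.base :: bs) ls = true := by
  simp only [okLevels, okOrbit, Bool.and_eq_true, List.all_eq_true, Nat.blt_eq, Nat.beq_eq] at h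
  obtain ⟨⟨⟨⟨⟨⟨-, horb0⟩, hbase⟩, hgens⟩, horb'⟩, hfix⟩, hrest⟩ := h
  refine ⟨hbase, horb0, hgens, fun p hp => ?_, hfix, hrest⟩
  have e := allBelow_spec horb' p hp
  simp only [Bool.and_eq_true, Bool.or_eq_true, Nat.blt_eq, Nat.beq_eq] at e
  obtain ⟨⟨h1, h2⟩, h3⟩ := e
  refine ⟨h1, h2, ?_⟩
  rcases h3 with h3 | ⟨⟨h4, h5⟩, h6⟩
  · exact Or.inl h3
  · exact Or.inr ⟨h4, h5, h6⟩

theorem path_spec {L : Level} {ls : List Level} {bs : List Nat}
    (h : C.D.okLevels bs (L :: ls) = true) : ∀ fuel p, p ≤ fuel → p < L.len →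
      (∀ k ∈ path L fuel p, k ∈ L.gens ∧ k < C.N) ∧
        C.D.app (path L fuel p) L.base = pt L p := by
  obtain ⟨-, h0, hg, hp', -, -⟩ := level_facts h
  intro fuel
  induction fuel with
  | zero =>
    intro p hp hl
    obtain rfl : p = 0 := by omega
    exact ⟨by simp [path], by simp [path, h0]⟩
  | succ f ih =>
    intro p hp hl
    obtain ⟨-, -, h3⟩ := hp' p hl
    rcases h3 with rfl | ⟨h4, h5, h6⟩
    · exact ⟨by simp [path], by simp [path, h0]⟩
    · have hp0 : Nat.beq p 0 = false := by
        cases hb : Nat.beq p 0 with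
        | false => rfl
        | true => have := Nat.eq_of_beq_eq_true hb; omega
      obtain ⟨i1, i2⟩ := ih _ (by omega : Nat.land (Nat.shiftRight (L.orb.word p) 16) 65535 ≤ f)
        (h4.trans hl)
      have hm : L.gens.getD (Nat.shiftRight (L.orb.word p) 32) 0 ∈ L.gens := by
        rw [List.getD_eq_getElem?_getD, List.getElem?_eq_getElem h5]
        exact List.getElem_mem h5
      simp only [path, hp0, cond_false]
      constructor
      · intro k hk
        rcases List.mem_append.1 hk with h' | h'
        · exact i1 k h'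
        · rw [List.mem_singleton.1 h']; exact ⟨hm, hg _ hm⟩
      · rw [app_append, i2]
        simpa using h6

theorem trans_spec {L : Level} {ls : List Level} {bs : List Nat}
    (h : C.D.okLevels bs (L :: ls) = true) {p : Nat} (hp : p < L.len) :
    ev I hw (path L L.len p) ∈ fixing I bs ∧
      ∀ b : Fin C.D.n, (b : Nat) = L.base →
        ((ev I hw (path L L.len p) b : Fin C.D.n) : Nat) = pt L p := by
  obtain ⟨-, -, -, -, hfix, -⟩ := level_facts h
  obtain ⟨h1, h2⟩ := path_spec h L.len p hp.le hp
  refine ⟨⟨ev_mem I hw _, fun i hi => Fin.ext ?_⟩, fun b hb => ?_⟩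
  · rw [ev_img I hw _ fun k hk => (h1 k hk).2]
    have : ∀ w : List Nat, (∀ k ∈ w, k ∈ L.gens) → C.D.app w (i : Nat) = (i : Nat) := by
      intro w
      induction w with
      | nil => simp
      | cons k w ihw =>
        intro hw'
        obtain ⟨hk, hw''⟩ := List.forall_mem_cons.1 hw'
        rw [app_cons, hfix k hk _ hi, ihw hw'']
    exact this _ fun k hk => (h1 k hk).1
  · rw [ev_img I hw _ fun k hk => (h1 k hk).2, hb, h2]

theorem dec_fixing : ∀ (ls : List Level) (bs : List Nat), C.D.okLevels bs ls = true →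
    ∀ σ, Dec I hw ls σ → σ ∈ fixing I bs
  | [], _, _, σ, hσ => by rw [Dec] at hσ; rw [hσ]; exact one_mem _
  | L :: ls, bs, h, σ, hσ => by
    obtain ⟨p, hp, σ', hσ', rfl⟩ := hσ
    have := dec_fixing ls _ (level_facts h).2.2.2.2.2 σ' hσ'
    exact mul_mem (trans_spec I hw h hp).1
      ⟨this.1, fun i hi => this.2 i (List.mem_cons_of_mem _ hi)⟩

theorem dec_card : ∀ (ls : List Level) (bs : List Nat), C.D.okLevels bs ls = true →
    (ls.map Level.len).prod ≤ Nat.card {σ // Dec I hw ls σ}
  | [], _, _ => by
    have : Nonempty {σ // Dec I hw [] σ} := ⟨⟨1, rfl⟩⟩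
    exact (Nat.card_pos : 0 < Nat.card {σ // Dec I hw [] σ})
  | L :: ls, bs, h => by
    obtain ⟨hb, -, -, hp', -, hrest⟩ := level_facts h
    let φ : Fin L.len × {σ // Dec I hw ls σ} → {σ // Dec I hw (L :: ls) σ} := fun q =>
      ⟨ev I hw (path L L.len q.1) * q.2.1, q.1, q.1.2, q.2.1, q.2.2, rfl⟩
    have hφ : Function.Injective φ := by
      rintro ⟨p, σ⟩ ⟨q, τ⟩ e
      have e' : ev I hw (path L L.len p) * σ.1 = ev I hw (path L L.len q) * τ.1 :=
        congrArg Subtype.val e
      let b : Fin C.D.n := ⟨L.base, hb⟩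
      have hσ := (dec_fixing I hw ls _ hrest _ σ.2).2 b (List.mem_cons_self ..)
      have hτ := (dec_fixing I hw ls _ hrest _ τ.2).2 b (List.mem_cons_self ..)
      have hpq : (p : Nat) = q := by
        have e2 := congrArg (fun π : Perm (Fin C.D.n) => ((π b : Fin C.D.n) : Nat)) e'
        simp only [Perm.mul_apply, hσ, hτ, (trans_spec I hw h p.2).2 b rfl,
          (trans_spec I hw h q.2).2 b rfl] at e2
        rw [← (hp' p p.2).2.1, e2, (hp' q q.2).2.1]
      obtain rfl : p = q := Fin.ext hpq
      exact Prod.ext rfl (Subtype.ext (mul_left_cancel e'))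
    have hc := Nat.card_le_card_of_injective φ hφ
    rw [Nat.card_prod, Nat.card_eq_fintype_card, Fintype.card_fin] at hc
    simpa using (Nat.mul_le_mul_left _ (dec_card ls _ hrest)).trans hc

include hw in
theorem le_card (hl : C.D.okLevels [] C.levels = true) :
    (C.levels.map Level.len).prod ≤ Nat.card (grp I) :=
  (dec_card I hw C.levels [] hl).trans
    (Nat.card_le_card_of_injective
      (fun τ : {τ // Dec I hw C.levels τ} =>
        (⟨τ.1, (dec_fixing I hw C.levels [] hl _ τ.2).1⟩ : grp I))
      fun a b e => Subtype.ext (congrArg Subtype.val e :))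

/-- if the orbit lengths multiply to the order, every element decomposes -/
theorem dec_all (hl : C.D.okLevels [] C.levels = true)
    (hcard : Nat.card (grp I) ≤ (C.levels.map Level.len).prod) {σ : Perm (Fin C.D.n)}
    (hσ : σ ∈ grp I) : Dec I hw C.levels σ := by
  let f : {τ // Dec I hw C.levels τ} → grp I := fun τ =>
    ⟨τ.1, (dec_fixing I hw C.levels [] hl _ τ.2).1⟩
  have hf : Function.Injective f := fun a b e => by
    have e' : ((f a : grp I) : Perm (Fin C.D.n)) = (f b : grp I) := by rw [e]
    exact Subtype.ext e'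
  have := Nat.bijective_iff_injective_and_card f |>.2
    ⟨hf, le_antisymm (Nat.card_le_card_of_injective f hf)
      (hcard.trans (dec_card I hw C.levels [] hl))⟩
  obtain ⟨τ, hτ⟩ := this.2 ⟨σ, hσ⟩
  rw [show σ = τ.1 from (congrArg Subtype.val hτ).symm]
  exact τ.2

theorem sift_of_dec (hi : C.okInv = true) : ∀ (ls : List Level) (bs : List Nat),
    C.D.okLevels bs ls = true → ∀ σ, Dec I hw ls σ → ∀ ys : List Nat,
      List.Forall₂ (fun L y => ∃ b : Fin C.D.n, (b : Nat) = L.base ∧
        ((σ b : Fin C.D.n) : Nat) = y) ls ys →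
      ∃ w, C.sift ls ys = some w ∧ (∀ k ∈ w, k < C.N) ∧ ev I hw w = σ
  | [], _, _, σ, hσ, ys, hys => by
    cases hys
    exact ⟨[], rfl, by simp, by rw [hσ]; rfl⟩
  | L :: ls, bs, h, σ, hσ, _, .cons (b := y) (l₂ := ys) ⟨b, hb, hby⟩ hys => by
    obtain ⟨p, hp, σ', hσ', rfl⟩ := hσ
    obtain ⟨-, -, -, hp', -, hrest⟩ := level_facts h
    have hσb : σ' b = b :=
      (dec_fixing I hw ls _ hrest _ hσ').2 b (by rw [hb]; exact List.mem_cons_self ..)
    rw [Perm.mul_apply, hσb, (trans_spec I hw h hp).2 b hb] at hby
    subst hby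
    obtain ⟨h1, -⟩ := path_spec h L.len p hp.le hp
    have hu := ev_invWord I hw hi _ fun k hk => (h1 k hk).2
    obtain ⟨v, hv, hvN, hve⟩ := sift_of_dec hi ls _ hrest σ' hσ'
      (ys.map fun z => C.D.app (C.invWord (path L L.len p)) z) (by
        rw [List.forall₂_map_right_iff]
        refine hys.imp fun L' z hz => ?_
        obtain ⟨b', hb', hz'⟩ := hz
        refine ⟨b', hb', ?_⟩
        rw [← hz', ← ev_img I hw _ hu.1, hu.2, Perm.mul_apply, Perm.inv_def,
          Equiv.symm_apply_apply])
    refine ⟨v ++ path L L.len p, ?_, ?_, ?_⟩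
    · have e : Nat.blt p L.len = true := by simpa [Nat.blt_eq] using hp
      simp only [sift, (hp' p hp).2.1, e, Nat.beq_refl, Bool.and_self, cond_true, hv]
    · intro k hk
      rcases List.mem_append.1 hk with h' | h'
      · exact hvN k h'
      · exact (h1 k h').2
    · rw [ev_append, hve]

/-- the images of the base points determine an element -/
theorem sift_spec (hl : C.D.okLevels [] C.levels = true) (hi : C.okInv = true)
    (hcard : Nat.card (grp I) ≤ (C.levels.map Level.len).prod) {σ : Perm (Fin C.D.n)}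
    (hσ : σ ∈ grp I) (f : Nat → Nat) (hf : ∀ i : Fin C.D.n, ((σ i : Fin C.D.n) : Nat) = f i) :
    ∃ w, C.sift C.levels (C.bases.map f) = some w ∧ (∀ k ∈ w, k < C.N) ∧ ev I hw w = σ := by
  refine sift_of_dec I hw hi C.levels [] hl σ (dec_all I hw hl hcard hσ) _ ?_
  have : ∀ (ls : List Level) (bs : List Nat), C.D.okLevels bs ls = true →
      List.Forall₂ (fun L y => ∃ b : Fin C.D.n, (b : Nat) = L.base ∧
        ((σ b : Fin C.D.n) : Nat) = y) ls ((ls.map Level.base).map f) := by
    intro ls
    induction ls with
    | nil => intro _ _; exact .nil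
    | cons L ls ih =>
      intro bs h
      exact .cons ⟨⟨L.base, (level_facts h).1⟩, rfl, hf _⟩ (ih _ (level_facts h).2.2.2.2.2)
  exact this C.levels [] hl

end Chain

end CfsgLib.SporOut
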