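import Cfsg.Agent.Lib.PresCert.Perm

/-!
Permutation tables with one packed number for each permutation, 16 bits for each point.
-/

set_option autoImplicit false

namespace CfsgLib.SporOut

open CfsgLib.PresCert Equiv

/-- permutations given by packed numbers -/
structure Tab where
  /-- degree -/
  n : Nat
  /-- number of given elements -/
  g : Nat
  /-- one number for each element -/
  cols : List Nat
  /-- for each further element, the word in earlier elements (first letter acts first) -/
  words : List (List Nat)

namespace Tab

variable (D : Tab)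

/-- the packed number of an element -/
noncomputable def col (k : Nat) : Nat := D.cols.getD k (nat_lit 0)

/-- entry of a packed number -/
noncomputable def lk (c i : Nat) : Nat :=
  Nat.land (Nat.shiftRight c (Nat.mul (nat_lit 16) i)) (nat_lit 65535)

/-- image of a point under an element -/
noncomputable def img (k i : Nat) : Nat := lk (D.col k) i

/-- apply packed numbers in turn -/
noncomputable def run (cs : List Nat) : Nat → Nat :=
  List.rec (motive := fun _ => Nat → Nat) (fun i => i) (fun c _ ih i => ih (lk c i)) cs

/-- apply a word, first letter first -/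
noncomputable def app (w : List Nat) (i : Nat) : Nat := run (w.map D.col) i

@[simp] theorem app_nil (i : Nat) : D.app [] i = i := rfl

@[simp] theorem app_cons (k : Nat) (w : List Nat) (i : Nat) :
    D.app (k :: w) i = D.app w (D.img k i) := rfl

theorem app_append : ∀ (u v : List Nat) (i : Nat), D.app (u ++ v) i = D.app v (D.app u i)
  | [], _, _ => rfl
  | k :: u, v, i => by
    simp only [List.cons_append, app_cons]
    exact app_append u v _

/-- the further elements are the products they claim to be -/
noncomputable def okWords : Nat → List (List Nat) → Bool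
  | _, [] => true
  | k, w :: l =>
    (w.all fun j => Nat.blt j k) &&
      allBelow D.n (fun i => Nat.beq (D.app w i) (D.img k i)) && okWords (k + 1) l

/-- number of elements -/
noncomputable def N : Nat := Nat.add D.g D.words.length

/-- the orbit of a level is correct -/
noncomputable def okOrbit (L : Level) : Bool :=
  Nat.blt 0 L.len && Nat.beq (Nat.land (L.orb.word (nat_lit 0)) (nat_lit 65535)) L.base &&
    Nat.blt L.base D.n && (L.gens.all fun k => Nat.blt k D.N) &&
    allBelow L.len fun p =>
      let e := L.orb.word p
      let pt := Nat.land e (nat_lit 65535)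
      let par := Nat.land (Nat.shiftRight e (nat_lit 16)) (nat_lit 65535)
      let k := L.gens.getD (Nat.shiftRight e (nat_lit 32)) (nat_lit 0)
      Nat.blt pt D.n && Nat.beq (L.pos.word pt) p &&
        (Nat.beq p 0 || (Nat.blt par p && Nat.blt (Nat.shiftRight e (nat_lit 32)) L.gens.length &&
          Nat.beq (D.img k (Nat.land (L.orb.word par) (nat_lit 65535))) pt))

/-- every level is correct and its generators fix the earlier base points -/
noncomputable def okLevels : List Nat → List Level → Bool
  | _, [] => true
  | bs, L :: ls =>
    D.okOrbit L && (L.gens.all fun k => bs.all fun b => Nat.beq (D.img k b) b) &&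
      okLevels (L.base :: bs) ls

/-- The meaning of the tables: the given elements as permutations. -/
structure Interp where
  /-- the given elements -/
  gen : Nat → Perm (Fin D.n)
  gen_img : ∀ k < D.g, ∀ i : Fin D.n, ((gen k i : Fin D.n) : Nat) = D.img k i

variable {D} (I : D.Interp)

/-- the group generated by the given elements -/
def grp : Subgroup (Perm (Fin D.n)) := Subgroup.closure {σ | ∃ k < D.g, I.gen k = σ}

theorem okWords_get : ∀ (l : List (List Nat)) (k : Nat), D.okWords k l = true →
    ∀ i, ∀ h : i < l.length, (∀ j ∈ l[i], j < k + i) ∧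
      ∀ p < D.n, D.app l[i] p = D.img (k + i) p
  | [], _, _, i, h => by simp at h
  | w :: l, k, h, i, hi => by
    simp only [okWords, Bool.and_eq_true, List.all_eq_true, Nat.blt_eq] at h
    obtain ⟨⟨h1, h2'⟩, h3⟩ := h
    have h2 : ∀ p < D.n, D.app w p = D.img k p := fun p hp =>
      Nat.eq_of_beq_eq_true (allBelow_spec h2' p hp)
    rcases i with _ | i
    · exact ⟨by simpa using h1, by simpa using h2⟩
    · have := okWords_get l (k + 1) h3 i (by simpa using hi)
      simpa [add_assoc, add_comm 1 i] using this

theorem elem_exists (hw : D.okWords D.g D.words = true) :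
    ∀ k < D.N, ∃ σ ∈ grp I, ∀ i : Fin D.n, ((σ i : Fin D.n) : Nat) = D.img k i := by
  intro k
  induction k using Nat.strong_induction_on with
  | _ k ih =>
    intro hk
    replace hk : k < D.g + D.words.length := hk
    rcases lt_or_ge k D.g with h | h
    · exact ⟨I.gen k, Subgroup.subset_closure ⟨k, h, rfl⟩, I.gen_img k h⟩
    obtain ⟨i, rfl⟩ : ∃ i, k = D.g + i := ⟨k - D.g, by omega⟩
    obtain ⟨h1, h2⟩ := okWords_get D.words D.g hw i (by omega)
    suffices key : ∀ w : List Nat, (∀ j ∈ w, j < D.g + i) →
        ∃ σ ∈ grp I, ∀ p : Fin D.n, ((σ p : Fin D.n) : Nat) = D.app w p by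
      obtain ⟨σ, hσ, he⟩ := key _ h1
      exact ⟨σ, hσ, fun p => by rw [he, h2 p p.2]⟩
    intro w
    induction w with
    | nil => exact fun _ => ⟨1, one_mem _, fun p => by simp⟩
    | cons j w ihw =>
      intro hjw
      obtain ⟨hj, hw'⟩ := List.forall_mem_cons.1 hjw
      obtain ⟨τ, hτ, eτ⟩ := ihw hw'
      obtain ⟨ρ, hρ, eρ⟩ := ih j hj (by show j < D.g + D.words.length; omega)
      exact ⟨τ * ρ, mul_mem hτ hρ, fun p => by simp [eτ, eρ]⟩

/-- the elements fixing the listed points -/
def fixing (bs : List Nat) : Subgroup (Perm (Fin D.n)) where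
  carrier := {σ | σ ∈ grp I ∧ ∀ i : Fin D.n, (i : Nat) ∈ bs → σ i = i}
  one_mem' := ⟨one_mem _, fun _ _ => rfl⟩
  mul_mem' := by
    intro a b ha hb
    exact ⟨mul_mem ha.1 hb.1, fun i hi => by simp [hb.2 i hi, ha.2 i hi]⟩
  inv_mem' := by
    intro a ha
    refine ⟨inv_mem ha.1, fun i hi => ?_⟩
    rw [Perm.inv_eq_iff_eq, ha.2 i hi]

end Tab

end CfsgLib.SporOut
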